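import Groth.Agent.CurveKummer.Kummer
import Groth.Agent.CurveKummer.ConstTors
import Groth.Agent.BigSiteLib.HofPushEt
import Groth.Agent.S0071
import Groth.Agent.EtFound.StalkSet
import Groth.Agent.EtFound.Presentation

/-!
# Finiteness of étale cohomology: formal steps
-/

set_option autoImplicit false
set_option linter.style.haveILetI false
set_option backward.isDefEq.respectTransparency false
set_option backward.isDefEq.respectTransparency.types false

universe u

open CategoryTheory CategoryTheory.Limits AlgebraicGeometry Opposite CategoryTheory.Abelian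

noncomputable section

namespace Groth.Agent.EtCurveFin

open Groth.Agent

variable {X : Scheme.{u}}

theorem finite_of_iso {F G : EtCoh.Ab X} (e : F ≅ G) (q : ℕ) [Finite (EtCoh.H X F q)] : Finite (EtCoh.H X G q) :=
  Finite.of_equiv _ (PicTors.hIso e q).toEquiv

theorem finite_of_exact {A B C : Type*} [AddCommGroup A] [AddCommGroup B] [AddCommGroup C] [Finite A] [Finite C]
    (f : A → B) (g : B →+ C) (h : ∀ b, g b = 0 → ∃ a, f a = b) : Finite B := by
  haveI : Finite g.ker := Finite.of_surjective (α := {a : A // g (f a) = 0})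
    (fun a => (⟨f a.1, a.2⟩ : g.ker)) fun ⟨b, hb⟩ => by
      obtain ⟨a, rfl⟩ := h b hb
      exact ⟨⟨a, hb⟩, rfl⟩
  haveI : Finite g.range := Finite.of_injective _ Subtype.val_injective
  haveI : Finite (B ⧸ g.ker) := Finite.of_equiv _ (QuotientAddGroup.quotientKerEquivRange g).symm.toEquiv
  exact .of_addSubgroup_quotient (H := g.ker)

section Sequence

variable {S : ShortComplex (EtCoh.Ab X)} (hS : S.ShortExact)

include hS in
theorem finite_middle (q : ℕ) [Finite (EtCoh.H X S.X₁ q)] [Finite (EtCoh.H X S.X₃ q)] :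
    Finite (EtCoh.H X S.X₂ q) :=
  finite_of_exact (Sheaf.H.map S.f q) (Sheaf.H.map S.g q) fun _ h => CurveKummer.exists_map_f_of_map_g hS h

include hS in
theorem finite_left_zero [Finite (EtCoh.H X S.X₂ 0)] : Finite (EtCoh.H X S.X₁ 0) :=
  Finite.of_injective _ (CurveKummer.map_f_injective_zero hS)

include hS in
theorem finite_left_succ (q : ℕ) [Finite (EtCoh.H X S.X₃ q)] [Finite (EtCoh.H X S.X₂ (q + 1))] :
    Finite (EtCoh.H X S.X₁ (q + 1)) :=
  finite_of_exact (fun z : EtCoh.H X S.X₃ q => z.comp hS.extClass (rfl : q + 1 = q + 1))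
    (Sheaf.H.map S.f (q + 1)) fun _ h => CurveKummer.exists_delta_of_map_f hS h

end Sequence

theorem finite_biproduct {ι : Type} [Finite ι] (G : ι → EtCoh.Ab X) (q : ℕ)
    (h : ∀ i, Finite (EtCoh.H X (G i) q)) : Finite (EtCoh.H X (⨁ G) q) := by
  classical
  haveI := Fintype.ofFinite ι
  refine Finite.of_injective (fun ξ i => Sheaf.H.map (biproduct.π G i) q ξ : EtCoh.H X (⨁ G) q → ∀ i, EtCoh.H X (G i) q)
    fun a b hab => ?_
  have hd : ∀ ξ : EtCoh.H X (⨁ G) q,
      ξ = ∑ i : ι, Sheaf.H.map (biproduct.ι G i) q (Sheaf.H.map (biproduct.π G i) q ξ) := fun ξ => by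
    conv_lhs => rw [← Sheaf.H.map_id_apply (x := ξ)]
    rw [← biproduct.total, Sheaf.H.map_apply, Ext.mk₀_sum, Ext.comp_sum]
    refine Finset.sum_congr rfl fun i _ => ?_
    rw [← Sheaf.H.map_comp_apply, Sheaf.H.map_apply]
  rw [hd a, hd b]
  exact Finset.sum_congr rfl fun i _ => congrArg _ (congrFun hab i)

/-- cohomology of a finite direct image -/
theorem finite_push {Z : Scheme.{u}} (g : Z ⟶ X) [IsFinite g] [EtCoh.BCCont g]
    [PreservesFiniteLimits (EtCoh.pull g)] (G : EtCoh.Ab Z) (q : ℕ) [Finite (EtCoh.H Z G q)] :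
    Finite (EtCoh.H X ((EtCoh.push g).obj G) q) :=
  Finite.of_injective _ (BigSiteLib.hofPush_bijective g G (fun p hp => S0071.result g G p hp) q).1

/-- a section killed by a jointly surjective family of inverse images is zero -/
theorem eq_zero_of_pull {ι : Type*} {Z : ι → Scheme.{u}} (g : ∀ i, Z i ⟶ X)
    (hg : ∀ x : X, ∃ i, x ∈ Set.range (g i).base) {A B : EtCoh.Ab X} (a : A ⟶ B)
    (ha : ∀ i, (EtCoh.pull (g i)).map a = 0) : a = 0 := by
  refine EtFound.eq_of_stalks a 0 fun Ω _ _ ξ => ?_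
  obtain ⟨i, hi⟩ := hg (ξ.base (default : Spec (CommRingCat.of Ω)))
  obtain ⟨Ω', _, _, z, e, he⟩ := EtFound.exists_lift_extension (g i) ξ hi
  have h1 : (EtCoh.stalk (z ≫ g i)).map a = 0 := by
    refine (cancel_epi ((EtFound.stalkPullIso (g i) z).hom.app A)).1 ?_
    rw [comp_zero]
    refine ((EtFound.stalkPullIso (g i) z).hom.naturality a).symm.trans ?_
    rw [Functor.comp_map, ha, Functor.map_zero, zero_comp]
  have h2 : (EtCoh.stalk (e ≫ ξ)).map a = 0 := by
    rw [he]; exact h1
  show (EtCoh.stalk ξ).map a = (EtCoh.stalk ξ).map (0 : A ⟶ B)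
  rw [Functor.map_zero]
  refine (cancel_mono ((EtFound.stalkExtIso AddCommGrpCat.{u + 1} ξ e).hom.app B)).1 ?_
  rw [zero_comp]
  refine ((EtFound.stalkExtIso AddCommGrpCat.{u + 1} ξ e).hom.naturality a).trans ?_
  show _ ≫ (EtCoh.stalk (e ≫ ξ)).map a = _
  rw [h2, comp_zero]

/-- the adjunction units of a finite jointly surjective family are jointly injective -/
theorem mono_lift_units {ι : Type} [Finite ι] {Z : ι → Scheme.{u}} (g : ∀ i, Z i ⟶ X)
    [∀ i, EtCoh.BCCont (g i)] (hg : ∀ x : X, ∃ i, x ∈ Set.range (g i).base) (F : EtCoh.Ab X) :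
    Mono (biproduct.lift fun i => (EtCoh.pullPushAdj (g i)).unit.app F :
      F ⟶ ⨁ fun i => (EtCoh.push (g i)).obj ((EtCoh.pull (g i)).obj F)) := by
  refine Preadditive.mono_iff_cancel_zero _ |>.2 fun A a ha => eq_zero_of_pull g hg a fun i => ?_
  have h0 : a ≫ (EtCoh.pullPushAdj (g i)).unit.app F = 0 := by
    have := congrArg (fun z => z ≫ biproduct.π (fun i => (EtCoh.push (g i)).obj ((EtCoh.pull (g i)).obj F)) i) ha
    simpa using this
  have := congrArg (fun z => (EtCoh.pull (g i)).map z ≫ (EtCoh.pullPushAdj (g i)).counit.app _) h0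
  simp only [Functor.map_comp, Category.assoc, Functor.map_zero, zero_comp] at this
  erw [(EtCoh.pullPushAdj (g i)).left_triangle_components F, Category.comp_id] at this
  exact this

end Groth.Agent.EtCurveFin
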