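import Groth.Agent.EtCurveFin.Basic
import Groth.Agent.CurveKummer.Open
import Groth.Agent.CharPTop.Card
import Groth.Agent.S0224
import Groth.Agent.S0225
import Groth.Agent.FieldCd.ClosedPts
import Groth.Agent.EtFound.SepClosedField
import Groth.Agent.EtFound.FinitePushConstr
import Groth.Agent.EtFound.NoethACC
import Groth.Agent.CdInt.PushStep
import Groth.Agent.EtContLib.ThenOps
import Groth.Agent.H23.TopDim
import Groth.Agent.Chevalley.CommAff.Finite

/-!
# Finite constant coefficients on open parts of smooth proper curves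
-/

set_option autoImplicit false
set_option maxHeartbeats 1600000
set_option synthInstance.maxHeartbeats 400000
set_option linter.style.haveILetI false
set_option linter.unusedSectionVars false
set_option backward.isDefEq.respectTransparency false
set_option backward.isDefEq.respectTransparency.types false

universe u

open CategoryTheory CategoryTheory.Limits AlgebraicGeometry Opposite TopologicalSpace CategoryTheory.Abelian

noncomputable section

namespace Groth.Agent.EtCurveFin

open Groth.Agent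

variable (k : Type u) [Field k] [IsAlgClosed k]

/-- finite schemes over an algebraically closed field -/
theorem finite_H_const_of_isFinite {C : Scheme.{u}} (g : C ⟶ Spec (CommRingCat.of k)) [IsFinite g]
    (M : Type) [AddCommGroup M] [Finite M] (q : ℕ) : Finite (EtCoh.H C (EtCoh.const C M) q) := by
  haveI := EtContLib.pfl g
  haveI : LocallyOfFinitePresentation g := inferInstance
  let P := (EtCoh.push g).obj (EtCoh.const C M)
  haveI : Finite (EtCoh.H (Spec (CommRingCat.of k)) P q) := by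
    rcases Nat.eq_zero_or_pos q with rfl | hq
    · haveI : Finite ((EtCoh.stalk (𝟙 (Spec (CommRingCat.of k)))).obj P) :=
        EtFound.finite_stalk_of_isConstructible
          (EtFound.isConstructible_push g (CdInt.isConstructible_const C M)) _
      haveI : Finite ((EtCore.gsec (Spec (CommRingCat.of k))).obj P) :=
        Finite.of_equiv ((EtCoh.stalk (𝟙 (Spec (CommRingCat.of k)))).obj P)
          ((EtFound.sectTopIso k AddCommGrpCat.{u + 1}).app P).addCommGroupIsoToAddEquiv.symm.toEquiv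
      exact @Finite.of_equiv _ ((EtCore.gsec (Spec (CommRingCat.of k))).obj P) (by assumption)
        (Sheaf.H.equiv₀ P (EtCore.topIsTerminal (Spec (CommRingCat.of k)))).symm.toEquiv
    · haveI := FieldCd.subsingleton_H_of_isAlgClosed k P q hq
      infer_instance
  exact Finite.of_surjective _
    (BigSiteLib.hofPush_bijective g _ (fun p hp => S0071.result g _ p hp) q).2

theorem dim_le_zero_of_lt_one {x : WithBot ℕ∞} (h : x < 1) : x ≤ 0 := by
  induction x with
  | bot => exact bot_le
  | coe a =>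
    have h' : a < 1 := by exact_mod_cast h
    exact_mod_cast (ENat.lt_one_iff_eq_zero.1 h').le

/-- degree zero of the constant sheaf of roots of unity on an integral scheme -/
theorem finite_h0_mu {U : Scheme.{u}} [IsIntegral U] (g : U ⟶ Spec (CommRingCat.of k)) {n : ℕ} [NeZero n]
    (hn : (n : k) ≠ 0) : Finite (EtCoh.H U (EtCoh.mu U n) 0) := by
  obtain ⟨e⟩ := CurveKummer.nonempty_h0_equiv (S0108.result _ n (CurveKummer.isUnit_cast g hn))
  haveI : Nonempty (⊤ : U.Opens) := ⟨⟨(Classical.arbitrary U), trivial⟩⟩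
  obtain ⟨e'⟩ := CurveKummer.nonempty_rootsOfUnity_equiv k (CurveKummer.constants k g) n hn
  haveI : Finite (Additive ↥(rootsOfUnity n k)) := inferInstanceAs (Finite ↥(rootsOfUnity n k))
  exact Finite.of_equiv _ (e.trans (MulEquiv.toAdditive e')).symm.toEquiv

/-- prime order coefficients on open parts of smooth proper curves -/
theorem finite_H_zmod {C : Scheme.{u}} (q : C ⟶ Spec (CommRingCat.of k)) [IsProper q] [Smooth q] [IsIntegral C]
    (hdim : topologicalKrullDim C ≤ 1) (U : C.Opens) (hne : (U : Set C).Nonempty) (ℓ : ℕ) [Fact ℓ.Prime]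
    (h : (ℓ : k) ≠ 0 ∨ IsProper (U.ι ≫ q)) (i : ℕ) :
    Finite (EtCoh.H (U : Scheme.{u}) (EtCoh.const (U : Scheme.{u}) (ZMod ℓ)) i) := by
  haveI : IsLocallyNoetherian C := LocallyOfFiniteType.isLocallyNoetherian q
  haveI : CompactSpace C := QuasiCompact.compactSpace_of_compactSpace q
  haveI : Nonempty C := ⟨hne.some⟩
  haveI : IsIso (⊤ : C.Opens).ι := inferInstanceAs (IsIso C.topIso.hom)
  haveI : IsProper ((⊤ : C.Opens).ι ≫ q) :=
    (MorphismProperty.cancel_left_of_respectsIso @IsProper (⊤ : C.Opens).ι q).2 ‹IsProper q›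
  haveI : Nonempty U := hne.to_subtype
  by_cases hp : (ℓ : k) = 0
  · haveI := h.resolve_left (not_not.2 hp)
    haveI : CharP k ℓ := CharP.ringChar_of_prime_eq_zero Fact.out hp ▸ ringChar.charP k
    letI : (U : Scheme.{u}).Over (Spec (CommRingCat.of k)) := ⟨U.ι ≫ q⟩
    haveI : IsProper ((U : Scheme.{u}) ↘ Spec (CommRingCat.of k)) := ‹IsProper (U.ι ≫ q)›
    exact (CharPTop.finite_and_card_le (k := k) (X := (U : Scheme.{u})) ℓ i).1
  rcases hdim.lt_or_eq with hlt | hdim
  · haveI : IsNoetherian C := {}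
    haveI : NoetherianSpace C := inferInstance
    haveI : Nonempty (IrreducibleCloseds C) :=
      ⟨⟨_, isIrreducible_singleton (x := hne.some).closure, isClosed_closure⟩⟩
    obtain ⟨-, hd⟩ := H23.TopDim.finite_discrete_of_dim_le_zero (X := C) (dim_le_zero_of_lt_one hlt)
    haveI := hd
    haveI : Subsingleton C := Chevalley.CommAff.subsingleton_of_krullDim_zero
      (le_antisymm (dim_le_zero_of_lt_one hlt) Order.krullDim_nonneg)
    have hU : U = ⊤ := Opens.ext (Set.eq_univ_of_forall fun x => Subsingleton.elim hne.some x ▸ hne.some_mem)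
    subst hU
    haveI : IsAffine C := by
      obtain ⟨_, ⟨V, hV, rfl⟩, hxV, -⟩ := C.isBasis_affineOpens.exists_subset_of_mem_open
        (Set.mem_univ (Classical.arbitrary C)) isOpen_univ
      have hV' : V = ⊤ := Opens.ext (Set.eq_univ_of_forall fun x => Subsingleton.elim (Classical.arbitrary C) x ▸ hxV)
      subst hV'
      haveI : IsAffine ((⊤ : C.Opens) : Scheme.{u}) := hV
      exact IsAffine.of_isIso (Scheme.topIso C).inv
    haveI : IsAffineHom q := inferInstance
    haveI : IsFinite q := IsFinite.iff_isProper_and_isAffineHom.2 ⟨inferInstance, inferInstance⟩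
    haveI : IsFinite ((⊤ : C.Opens).ι ≫ q) :=
      (MorphismProperty.cancel_left_of_respectsIso @IsFinite (⊤ : C.Opens).ι q).2 ‹IsFinite q›
    exact finite_H_const_of_isFinite k ((⊤ : C.Opens).ι ≫ q) (ZMod ℓ) i
  haveI : NeZero ℓ := ⟨(Fact.out : ℓ.Prime).ne_zero⟩
  obtain ⟨ζ, hζ⟩ := CurveKummer.exists_cyclotomic k (U.ι ≫ q) hp
  haveI := EtLC12.MuConst.isIso_constToMu (CurveKummer.isUnit_cast (U.ι ≫ q) hp) ζ hζ
  let e := PicTors.hIso (asIso (EtLC12.MuConst.constToMu ζ hζ)) (X := (U : Scheme.{u}))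
  letI : C.Over (Spec (CommRingCat.of k)) := ⟨q⟩
  haveI : IsProper (C ↘ Spec (CommRingCat.of k)) := ‹IsProper q›
  haveI : Smooth (C ↘ Spec (CommRingCat.of k)) := ‹Smooth q›
  rcases i with _ | _ | i
  · exact @Finite.of_equiv _ _ (finite_h0_mu k (U.ι ≫ q) hp) (e 0).symm.toEquiv
  all_goals by_cases hU : ∀ y : C, y ∈ U
  · have hU' : U = ⊤ := Opens.ext (Set.eq_univ_of_forall hU)
    subst hU'
    letI : ((⊤ : C.Opens) : Scheme.{u}).Over (Spec (CommRingCat.of k)) := ⟨(⊤ : C.Opens).ι ≫ q⟩
    obtain ⟨e1⟩ := S0224.result k ((⊤ : C.Opens) : Scheme.{u})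
      ⟨show IsProper ((⊤ : C.Opens).ι ≫ q) from inferInstance, show Smooth ((⊤ : C.Opens).ι ≫ q) from inferInstance,
        inferInstance, (CurveKummer.topologicalKrullDim_open k (⊤ : C.Opens)).trans hdim⟩ _ rfl ℓ (NeZero.pos ℓ) hp
    exact Finite.of_equiv _ e1.symm.toEquiv
  · push Not at hU
    obtain ⟨y, hy⟩ := hU
    have hη : genericPoint C ∈ U := ((genericPoint_spec C).mem_open_set_iff U.isOpen).2 (by rwa [Set.univ_inter])
    haveI := CurveKummer.finite_bd k hdim hη
    haveI : Finite ↥((U : Set C)ᶜ) := Finite.of_surjective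
      (fun x : CurveKummer.Bd U => (⟨x.1.1, x.2⟩ : ↥((U : Set C)ᶜ))) fun z =>
      ⟨⟨⟨z.1, CurveKummer.isClosed_of_not_mem U hne hdim z.2⟩, z.2⟩, rfl⟩
    haveI : Nonempty ↥((U : Set C)ᶜ) := ⟨⟨y, hy⟩⟩
    obtain ⟨e1⟩ := CurveKummer.nonempty_h1_open k hdim U hne _ Nat.card_pos rfl hp
    exact Finite.of_equiv _ (e1.symm.toEquiv.trans (e 1).symm.toEquiv)
  · have hU' : U = ⊤ := Opens.ext (Set.eq_univ_of_forall hU)
    subst hU'
    letI : ((⊤ : C.Opens) : Scheme.{u}).Over (Spec (CommRingCat.of k)) := ⟨(⊤ : C.Opens).ι ≫ q⟩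
    have hC : Curve.IsSmoothProperCurve k ((⊤ : C.Opens) : Scheme.{u}) ((⊤ : C.Opens).ι ≫ q) :=
      ⟨inferInstance, inferInstance, inferInstance, (CurveKummer.topologicalKrullDim_open k (⊤ : C.Opens)).trans hdim⟩
    rcases Nat.eq_zero_or_pos i with rfl | hi
    · obtain ⟨e1⟩ := S0225.result k ((⊤ : C.Opens) : Scheme.{u}) hC ℓ (NeZero.pos ℓ) hp
      exact Finite.of_equiv _ e1.symm.toEquiv
    · have hv : ∀ j, 2 ≤ j → Subsingleton (EtCoh.H ((⊤ : C.Opens) : Scheme.{u}) (EtCoh.Gm _) j) := fun j hj =>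
        GmSeq.subsingleton_H_Gm_curve k _ ((⊤ : C.Opens).ι ≫ q) hC.2.2.2 j hj
      haveI := hv (i + 1) (by omega)
      have hs := CurveKummer.subsingleton_H_mu (q := i + 1)
        (S0108.result _ ℓ (CurveKummer.isUnit_cast ((⊤ : C.Opens).ι ≫ q) hp)) (fun z => ⟨0, Subsingleton.elim _ _⟩)
        (hv (i + 1 + 1) (by omega))
      exact @Finite.of_equiv _ _ (@Finite.of_subsingleton _ hs) (e (i + 2)).symm.toEquiv
  · push Not at hU
    obtain ⟨y, hy⟩ := hU
    exact @Finite.of_equiv _ _ (@Finite.of_subsingleton _ ((CurveKummer.open_mu k hdim U hne y hy hp).2 (i + 2) (by omega)))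
      (e (i + 2)).symm.toEquiv

/-- finite coefficients on open parts of smooth proper curves -/
theorem finite_H_const {C : Scheme.{u}} (q : C ⟶ Spec (CommRingCat.of k)) [IsProper q] [Smooth q] [IsIntegral C]
    (hdim : topologicalKrullDim C ≤ 1) (U : C.Opens) (hne : (U : Set C).Nonempty) (M : Type) [AddCommGroup M]
    [Finite M] (h : ((Nat.card M : ℕ) : k) ≠ 0 ∨ IsProper (U.ι ≫ q)) (i : ℕ) :
    Finite (EtCoh.H (U : Scheme.{u}) (EtCoh.const (U : Scheme.{u}) M) i) := by
  generalize hN : Nat.card M = N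
  induction N using Nat.strong_induction_on generalizing M with
  | _ N ih =>
    subst hN
    let Γ : AddCommGrpCat.{u + 1} ⥤ EtCoh.Ab (U : Scheme.{u}) :=
      constantSheaf (U : Scheme.{u}).smallEtaleTopology AddCommGrpCat.{u + 1}
    haveI : (EtCore.gsec (U : Scheme.{u})).Additive := ⟨fun {_ _ _ _} => rfl⟩
    haveI : Γ.Additive := (EtCore.constAdj (U : Scheme.{u})).left_adjoint_additive
    rcases subsingleton_or_nontrivial M with hM | hM
    · have hz : 𝟙 (EtCoh.const (U : Scheme.{u}) M) = 0 := by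
        have h1 : 𝟙 (AddCommGrpCat.of (ULift.{u + 1} M)) = 0 := by
          ext x
          exact Subsingleton.elim _ _
        show 𝟙 (Γ.obj (AddCommGrpCat.of (ULift.{u + 1} M))) = 0
        rw [← Γ.map_id, h1, Functor.map_zero]
      haveI : Subsingleton (EtCoh.H (U : Scheme.{u}) (EtCoh.const (U : Scheme.{u}) M) i) :=
        subsingleton_of_forall_eq 0 fun x => by
          rw [← Sheaf.H.map_id_apply (x := x), hz, Sheaf.H.map_apply, Ext.mk₀_zero, Ext.comp_zero]
      infer_instance
    have hM1 : Nat.card M ≠ 1 := (Finite.one_lt_card (α := M)).ne'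
    obtain ⟨ℓ, hℓ, hdvd⟩ := Nat.exists_prime_and_dvd hM1
    haveI := Fact.mk hℓ
    haveI := Fintype.ofFinite M
    obtain ⟨x, hx⟩ := exists_prime_addOrderOf_dvd_card ℓ (Nat.card_eq_fintype_card (α := M) ▸ hdvd)
    let N : AddSubgroup M := AddSubgroup.zmultiples x
    have hNc : Nat.card N = ℓ := (Nat.card_zmultiples x).trans hx
    let eN : ZMod ℓ ≃+ N := (ZMod.ringEquivCongr hNc.symm).toAddEquiv.trans (zmodAddCyclicAddEquiv inferInstance)
    have hmul : Nat.card M = Nat.card (M ⧸ N) * ℓ := by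
      rw [← hNc]
      exact AddSubgroup.card_eq_card_quotient_mul_card_addSubgroup N
    let S : ShortComplex AddCommGrpCat.{u + 1} := ShortComplex.mk
      (AddCommGrpCat.ofHom (AddEquiv.ulift.symm.toAddMonoidHom.comp
        ((N.subtype.comp eN.toAddMonoidHom).comp AddEquiv.ulift.toAddMonoidHom)) :
        AddCommGrpCat.of (ULift.{u + 1} (ZMod ℓ)) ⟶ AddCommGrpCat.of (ULift.{u + 1} M))
      (AddCommGrpCat.ofHom (AddEquiv.ulift.symm.toAddMonoidHom.comp
        ((QuotientAddGroup.mk' N).comp AddEquiv.ulift.toAddMonoidHom)) :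
        AddCommGrpCat.of (ULift.{u + 1} M) ⟶ AddCommGrpCat.of (ULift.{u + 1} (M ⧸ N)))
      (by
        ext a
        exact (QuotientAddGroup.eq_zero_iff _).2 (eN (ULift.down a)).2)
    have hS : S.ShortExact :=
      { exact := by
          rw [ShortComplex.ab_exact_iff]
          intro a ha
          obtain ⟨z, hz⟩ := eN.surjective ⟨_, (QuotientAddGroup.eq_zero_iff (N := N) _).1
            (show ((a : ULift.{u + 1} M).down : M ⧸ N) = 0 from congrArg ULift.down ha)⟩
          exact ⟨(ULift.up z : ULift.{u + 1} (ZMod ℓ)), ULift.ext _ _ (congrArg Subtype.val hz)⟩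
        mono_f := (AddCommGrpCat.mono_iff_injective _).2 fun a b hab =>
          ULift.ext _ _ (eN.injective (Subtype.ext (congrArg ULift.down hab)))
        epi_g := (AddCommGrpCat.epi_iff_surjective _).2 fun b => by
          obtain ⟨m, hm⟩ := QuotientAddGroup.mk'_surjective N (b : ULift.{u + 1} (M ⧸ N)).down
          exact ⟨(ULift.up m : ULift.{u + 1} M), ULift.ext _ _ hm⟩ }
    obtain ⟨_, hS'⟩ := CurveKummer.constSheaf_shortExact (X := (U : Scheme.{u})) hS
    haveI : Finite (EtCoh.H (U : Scheme.{u}) (S.map Γ).X₁ i) :=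
      finite_H_zmod k q hdim U hne ℓ (h.imp_left fun h' h0 => h' (by rw [hmul, Nat.cast_mul, h0, mul_zero])) i
    haveI : Finite (EtCoh.H (U : Scheme.{u}) (S.map Γ).X₃ i) :=
      ih (Nat.card (M ⧸ N)) (by
        have := hℓ.one_lt
        have : 0 < Nat.card (M ⧸ N) := Nat.card_pos
        rw [hmul]
        nlinarith) (M ⧸ N) (h.imp_left fun h' h0 => h' (by rw [hmul, Nat.cast_mul, h0, zero_mul])) rfl
    exact finite_middle hS' i

end Groth.Agent.EtCurveFin
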