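import Groth.Agent.NormFieldX.Curve
import Groth.Agent.DimOne.Completion
import Groth.Agent.DimOne.Ample
import Groth.Agent.FlatLoc6.SerreNormal
import Groth.Agent.CurveCohLib.RegularCurve
import Groth.Agent.PnCoh.Chow.Proper
import Groth.Agent.VarDim.Basic
import Groth.Agent.SchTop.Closed
import Groth.Agent.H23.Isogeny

/-!
# Schemes of dimension at most one: finite surjections from open parts of smooth proper integral curves
-/

set_option autoImplicit false
set_option linter.style.haveILetI false
set_option linter.unusedSectionVars false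
set_option backward.isDefEq.respectTransparency false
set_option backward.isDefEq.respectTransparency.types false
set_option maxHeartbeats 1000000
set_option synthInstance.maxHeartbeats 100000

universe u

open CategoryTheory CategoryTheory.Limits AlgebraicGeometry TopologicalSpace

noncomputable section

namespace Groth.Agent.EtCurveFin

open Groth.Agent

/-- An integral closed subscheme with a given generic point. -/
theorem exists_integral_closed {X : Scheme.{u}} (ξ : X) :
    ∃ (Z : Scheme.{u}) (ι : Z ⟶ X) (_ : IsClosedImmersion ι) (_ : IsIntegral Z), ι (genericPoint Z) = ξ := by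
  let J : X.IdealSheafData := Scheme.IdealSheafData.vanishingIdeal ⟨closure {ξ}, isClosed_closure⟩
  have hr : Set.range J.subschemeι = closure {ξ} := by
    rw [J.range_subschemeι]
    rfl
  obtain ⟨z, hz⟩ : ξ ∈ Set.range J.subschemeι := hr ▸ subset_closure rfl
  have h2 : closure ({z} : Set J.subscheme) = Set.univ := by
    rw [J.subschemeι.isClosedEmbedding.isInducing.closure_eq_preimage_closure_image, Set.image_singleton,
      hz, ← hr, Set.preimage_range]
  haveI : IrreducibleSpace J.subscheme := by
    refine (irreducibleSpace_def _).2 ?_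
    rw [Set.top_eq_univ, ← h2]
    exact isIrreducible_singleton.closure
  haveI : IsIntegral J.subscheme := isIntegral_of_irreducibleSpace_of_isReduced _
  refine ⟨J.subscheme, J.subschemeι, inferInstance, inferInstance, ?_⟩
  rw [← hz]
  exact congrArg _ ((genericPoint_spec J.subscheme).eq (show IsGenericPoint z ⊤ from h2))

/-- finitely many integral closed subschemes covering a Noetherian scheme -/
theorem exists_integral_family (X : Scheme.{u}) [IsNoetherian X] :
    ∃ (n : ℕ) (Z : Fin n → Scheme.{u}) (ι : ∀ i, Z i ⟶ X),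
      (∀ i, IsClosedImmersion (ι i)) ∧ (∀ i, IsIntegral (Z i)) ∧ ∀ x : X, ∃ i, x ∈ Set.range (ι i).base := by
  haveI : Finite {c : X // DimOne.IsGen c} := DimOne.finite_setOf_isGen.to_subtype
  obtain ⟨n, ⟨e⟩⟩ := Finite.exists_equiv_fin {c : X // DimOne.IsGen c}
  choose Z ι hι hZ hgen using fun i : Fin n => exists_integral_closed (e.symm i).1
  refine ⟨n, Z, ι, hι, hZ, fun x => ?_⟩
  obtain ⟨c, hc, hcx⟩ := DimOne.exists_isGen_specializes x
  refine ⟨e ⟨c, hc⟩, ?_⟩
  haveI := hι (e ⟨c, hc⟩)
  refine hcx.mem_closed (ι (e ⟨c, hc⟩)).isClosedEmbedding.isClosed_range ⟨genericPoint (Z (e ⟨c, hc⟩)), ?_⟩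
  rw [hgen, Equiv.symm_apply_apply]

variable (k : Type u) [Field k] [IsAlgClosed k]

/-- a finite surjection from an open part of a smooth proper integral curve -/
theorem exists_model {Z : Scheme.{u}} (f : Z ⟶ Spec (CommRingCat.of k)) [IsSeparated f] [LocallyOfFiniteType f]
    [QuasiCompact f] [IsIntegral Z] (hdim : topologicalKrullDim Z ≤ 1) :
    ∃ (C : Scheme.{u}) (q : C ⟶ Spec (CommRingCat.of k)) (_ : IsProper q) (_ : Smooth q) (_ : IsIntegral C)
      (U : C.Opens) (π : (U : Scheme.{u}) ⟶ Z) (_ : IsFinite π),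
      topologicalKrullDim C ≤ 1 ∧ (U : Set C).Nonempty ∧ Function.Surjective π.base ∧ π ≫ f = U.ι ≫ q := by
  haveI : IsLocallyNoetherian Z := LocallyOfFiniteType.isLocallyNoetherian f
  haveI : CompactSpace Z := QuasiCompact.compactSpace_of_compactSpace f
  haveI : IsNoetherian Z := {}
  haveI : Z.IsSeparated := ⟨by
    rw [← terminal.comp_from f]
    infer_instance⟩
  obtain ⟨L, hL⟩ := DimOne.exists_isAmple (X := Z) hdim
  obtain ⟨d, Y, cl, j, hcl, hj, hjf, hjd, hjsd, hYdim, -, -⟩ := DimOne.exists_completion k f hdim hL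
  haveI := hcl; haveI := hj; haveI := hjsd
  let q : Y ⟶ Spec (CommRingCat.of k) := cl ≫ CohB1.ProjSpace.toSpec d k
  haveI : IsProper (CohB1.ProjSpace.toSpec d k) := PnCoh.Chow.isProper_toSpec d k
  haveI : IsProper q := inferInstanceAs (IsProper (cl ≫ _))
  haveI : IrreducibleSpace Y := by
    have h := (IrreducibleSpace.isIrreducible_univ Z).image j j.continuous.continuousOn
    rw [Set.image_univ] at h
    have h2 := h.closure
    rw [hjd.closure_eq] at h2
    rw [irreducibleSpace_def, Set.top_eq_univ]
    exact h2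
  haveI : IsReduced Y := IsSchemeTheoreticallyDominant.isReduced j
  haveI : IsIntegral Y := isIntegral_of_irreducibleSpace_of_isReduced Y
  haveI : IsLocallyNoetherian Y := LocallyOfFiniteType.isLocallyNoetherian q
  haveI : CompactSpace Y := QuasiCompact.compactSpace_of_compactSpace q
  let φ : Y.functionField →+* Y.functionField := RingHom.id _
  haveI : TopologicalSpace.NoetherianSpace (Spec (CommRingCat.of Y.functionField)) := inferInstance
  haveI : QuasiCompact (NormFieldX.pnt Y Y.functionField φ) := inferInstance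
  haveI : QuasiSeparated (NormFieldX.pnt Y Y.functionField φ) := inferInstance
  haveI : IsFinite (NormFieldX.ν Y Y.functionField φ) :=
    NormFieldX.isFinite_ν k q (RingHom.Finite.id _)
  let C : Scheme.{u} := NormFieldX.norm Y Y.functionField φ
  let ν : C ⟶ Y := NormFieldX.ν Y Y.functionField φ
  let qC : C ⟶ Spec (CommRingCat.of k) := ν ≫ q
  haveI : IsFinite ν := ‹IsFinite (NormFieldX.ν Y Y.functionField φ)›
  haveI : IsProper qC := inferInstanceAs (IsProper (ν ≫ q))
  haveI : IsIntegral C := inferInstanceAs (IsIntegral (NormFieldX.norm Y Y.functionField φ))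
  haveI : IsLocallyNoetherian C := LocallyOfFiniteType.isLocallyNoetherian qC
  have hCdim : topologicalKrullDim C ≤ 1 := by
    rw [VarDim.topologicalKrullDim_eq_deg_genericPoint qC]
    rw [VarDim.topologicalKrullDim_eq_deg_genericPoint q] at hYdim
    rw [VarDim.deg_eq_add (p := qC) ν q rfl, H23.Isogeny.fdeg_eq_zero_of_finite ν, add_zero]
    refine le_trans ?_ hYdim
    exact_mod_cast VarDim.deg_le_of_specializes q (genericPoint_specializes _)
  haveI : Smooth qC := by
    letI : C.Over (Spec (CommRingCat.of k)) := ⟨qC⟩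
    haveI : LocallyOfFiniteType (C ↘ Spec (CommRingCat.of k)) := inferInstanceAs (LocallyOfFiniteType qC)
    exact CurveCohLib.RegularCurve.smooth_of_regular k (X := C) fun x _ => by
      obtain ⟨h1, h2⟩ := NormFieldX.isNormalScheme_norm (X := Y) (K := Y.functionField) (φ := φ) x
      haveI : IsDomain (C.presheaf.stalk x) := h1
      haveI : IsIntegrallyClosed (C.presheaf.stalk x) := h2
      exact FlatLoc6.regular_of_normal (C.presheaf.stalk x) ((SchTop.ringKrullDim_stalk_le x).trans hCdim)
  have hν : Function.Surjective ν := by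
    have h1 : genericPoint Y ∈ Set.range ν := ⟨_, NormFieldX.ν_η Y Y.functionField φ⟩
    intro y
    exact (ν.isClosedMap.isClosed_range.closure_subset_iff.2 (Set.singleton_subset_iff.2 h1))
      (specializes_iff_mem_closure.1 (genericPoint_specializes y))
  let π : (ν ⁻¹ᵁ j.opensRange : Scheme.{u}) ⟶ Z := (ν ∣_ j.opensRange) ≫ j.isoOpensRange.inv
  haveI : IsFinite (ν ∣_ j.opensRange) :=
    MorphismProperty.of_isPullback (isPullback_morphismRestrict ν j.opensRange).flip ‹IsFinite ν›
  haveI : IsFinite π := inferInstanceAs (IsFinite (_ ≫ _))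
  have hπj : π ≫ j = (ν ⁻¹ᵁ j.opensRange).ι ≫ ν := by
    rw [Category.assoc, Scheme.Hom.isoOpensRange_inv_comp, morphismRestrict_ι]
  have hπ : Function.Surjective π.base := fun z => by
    obtain ⟨c, hc⟩ := hν (j z)
    refine ⟨⟨c, show ν c ∈ j.opensRange from ⟨z, hc.symm⟩⟩, j.isOpenEmbedding.injective ?_⟩
    rw [← Scheme.Hom.comp_apply, hπj]
    exact hc
  refine ⟨C, qC, inferInstance, inferInstance, inferInstance, ν ⁻¹ᵁ j.opensRange, π, inferInstance, hCdim, ?_, hπ, ?_⟩
  · obtain ⟨c, -⟩ := hπ (genericPoint Z)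
    exact ⟨c.1, c.2⟩
  · rw [← hjf, ← Category.assoc, hπj, Category.assoc]

end Groth.Agent.EtCurveFin
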