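import Groth.Agent.EtCurveFin.Const
import Groth.Agent.EtCurveFin.Model
import Groth.Agent.EtFinEmbed.Main
import Groth.Agent.S0131
import Groth.Agent.CdInt.CharP

/-!
# Finiteness of the étale cohomology of constructible sheaves on curves
-/

set_option autoImplicit false
set_option maxHeartbeats 1600000
set_option synthInstance.maxHeartbeats 400000
set_option linter.style.haveILetI false
set_option linter.unusedSectionVars false
set_option backward.isDefEq.respectTransparency false
set_option backward.isDefEq.respectTransparency.types false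

universe u

open CategoryTheory CategoryTheory.Limits AlgebraicGeometry Opposite TopologicalSpace CategoryTheory.Abelian

noncomputable section

namespace Groth.Agent.EtCurveFin

open Groth.Agent

variable (k : Type u) [Field k] [IsAlgClosed k]

theorem cast_card_ne_zero {K : Type} [AddCommGroup K] [Finite K] {n : ℕ} (hK : ∀ x : K, n • x = 0)
    (hn : (n : k) ≠ 0) : ((Nat.card K : ℕ) : k) ≠ 0 := by
  intro h0
  rcases CharP.char_is_prime_or_zero k (ringChar k) with hp | hp
  · haveI := Fact.mk hp
    haveI := Fintype.ofFinite K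
    obtain ⟨x, hx⟩ := exists_prime_addOrderOf_dvd_card (ringChar k)
      (Nat.card_eq_fintype_card (α := K) ▸ (ringChar.spec k _).1 h0)
    exact hn ((ringChar.spec k n).2 (hx ▸ addOrderOf_dvd_of_nsmul_eq_zero (hK x)))
  · have := (ringChar.spec k _).1 h0
    rw [hp, zero_dvd_iff] at this
    exact (Nat.card_pos (α := K)).ne' this

theorem nsmul_map_eq_zero {A B : Type*} [Category A] [Category B] [Preadditive A] [Preadditive B]
    (Φ : A ⥤ B) [Φ.Additive] {n : ℕ} {G : A} (h : n • 𝟙 G = 0) : n • 𝟙 (Φ.obj G) = 0 := by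
  rw [← Φ.map_id, ← Functor.map_nsmul, h, Φ.map_zero]

theorem nsmul_biproduct_eq_zero {A : Type*} [Category A] [Preadditive A] {ι : Type} (G : ι → A) [HasBiproduct G]
    {n : ℕ} (h : ∀ i, n • 𝟙 (G i) = 0) : n • 𝟙 (⨁ G) = 0 := by
  refine biproduct.hom_ext _ _ fun i => ?_
  rw [zero_comp, Preadditive.nsmul_comp, Category.id_comp, ← Category.comp_id (biproduct.π G i),
    ← Preadditive.comp_nsmul, h, comp_zero]

theorem nsmul_const_eq_zero (X : Scheme.{u}) {M : Type} [AddCommGroup M] {n : ℕ} (h : ∀ x : M, n • x = 0) :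
    n • 𝟙 (EtCoh.const X M) = 0 := by
  haveI : (EtCore.gsec X).Additive := ⟨fun {_ _ _ _} => rfl⟩
  haveI : (constantSheaf X.smallEtaleTopology AddCommGrpCat.{u + 1}).Additive :=
    (EtCore.constAdj X).left_adjoint_additive
  refine nsmul_map_eq_zero (constantSheaf X.smallEtaleTopology AddCommGrpCat.{u + 1}) ?_
  ext x
  exact h (x : ULift.{u + 1} M).down

/-- maps killed by `n` into a direct image of a constant sheaf land in the `n`-torsion -/
theorem exists_torsion_factor {X Y : Scheme.{u}} (g : Y ⟶ X) [EtCoh.BCCont g] (M : Type) [AddCommGroup M] (n : ℕ) :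
    ∃ e : (EtCoh.push g).obj (EtCoh.const Y (nsmulAddMonoidHom n : M →+ M).ker) ⟶
        (EtCoh.push g).obj (EtCoh.const Y M),
      Mono e ∧ ∀ {F : EtCoh.Ab X}, n • 𝟙 F = 0 → ∀ a : F ⟶ (EtCoh.push g).obj (EtCoh.const Y M),
        ∃ b, b ≫ e = a := by
  let Γ : AddCommGrpCat.{u + 1} ⥤ EtCoh.Ab Y := constantSheaf Y.smallEtaleTopology AddCommGrpCat.{u + 1}
  haveI : (EtCore.gsec Y).Additive := ⟨fun {_ _ _ _} => rfl⟩
  haveI : Γ.Additive := (EtCore.constAdj Y).left_adjoint_additive
  haveI : PreservesFiniteLimits Γ := comp_preservesFiniteLimits _ _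
  haveI : PreservesColimitsOfSize.{0, 0} Γ := (EtCore.constAdj Y).leftAdjoint_preservesColimits
  haveI : PreservesFiniteColimits Γ := PreservesColimitsOfSize.preservesFiniteColimits _
  haveI : (EtCoh.push g).IsRightAdjoint := (EtCoh.pullPushAdj g).isRightAdjoint
  let K := (nsmulAddMonoidHom n : M →+ M).ker
  let S : ShortComplex AddCommGrpCat.{u + 1} := ShortComplex.mk
    (AddCommGrpCat.ofHom (AddEquiv.ulift.symm.toAddMonoidHom.comp (K.subtype.comp AddEquiv.ulift.toAddMonoidHom)) :
      AddCommGrpCat.of (ULift.{u + 1} K) ⟶ AddCommGrpCat.of (ULift.{u + 1} M))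
    (n • 𝟙 (AddCommGrpCat.of (ULift.{u + 1} M)))
    (by
      rw [Preadditive.comp_nsmul, Category.comp_id]
      ext x
      exact (show (n • ((x : ULift.{u + 1} K).down : M)) = 0 from (x : ULift.{u + 1} K).down.2))
  haveI : Mono S.f := (AddCommGrpCat.mono_iff_injective _).2 fun a b hab =>
    ULift.ext _ _ (Subtype.ext (congrArg ULift.down hab))
  have hS : S.Exact := by
    rw [ShortComplex.ab_exact_iff]
    intro a ha
    exact ⟨(ULift.up ⟨(a : ULift.{u + 1} M).down, congrArg ULift.down ha⟩ : ULift.{u + 1} K), ULift.ext _ _ rfl⟩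
  have h1 := (hS.map_of_mono_of_preservesKernel Γ inferInstance inferInstance).map_of_mono_of_preservesKernel
    (EtCoh.push g) (by show Mono (Γ.map S.f); infer_instance) inferInstance
  let T := (S.map Γ).map (EtCoh.push g)
  haveI hT : Mono T.f := by show Mono ((EtCoh.push g).map (Γ.map S.f)); infer_instance
  refine ⟨T.f, hT, fun {F} hF a => ?_⟩
  have ha : a ≫ T.g = 0 := by
    show a ≫ (EtCoh.push g).map (Γ.map (n • 𝟙 _)) = 0
    rw [Functor.map_nsmul, Functor.map_nsmul, Γ.map_id, (EtCoh.push g).map_id, Preadditive.comp_nsmul]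
    erw [Category.comp_id]
    rw [← Category.id_comp a, ← Preadditive.nsmul_comp, hF, zero_comp]
  exact ⟨h1.lift a ha, h1.lift_f a ha⟩

/-- constant sheaves embed into sums of finite direct images with finite cohomology -/
theorem exists_mono_finite_const {Z : Scheme.{u}} (f : Z ⟶ Spec (CommRingCat.of k)) [IsSeparated f]
    [LocallyOfFiniteType f] [QuasiCompact f] (hdim : topologicalKrullDim Z ≤ 1) (M : Type) [AddCommGroup M] [Finite M]
    (h : ((Nat.card M : ℕ) : k) ≠ 0 ∨ IsProper f) (n : ℕ) (hn : ∀ x : M, n • x = 0) :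
    ∃ (R : EtCoh.Ab Z) (ι : EtCoh.const Z M ⟶ R), Mono ι ∧ n • 𝟙 R = 0 ∧ EtPBC.IsConstructible R ∧
      ∀ q, Finite (EtCoh.H Z R q) := by
  haveI : IsLocallyNoetherian Z := LocallyOfFiniteType.isLocallyNoetherian f
  haveI : CompactSpace Z := QuasiCompact.compactSpace_of_compactSpace f
  haveI : IsNoetherian Z := {}
  obtain ⟨N, W, ι, hι, hW, hcov⟩ := exists_integral_family Z
  haveI := hι
  haveI := hW
  have hdimW : ∀ c, topologicalKrullDim (W c) ≤ 1 := fun c =>
    ((ι c).isClosedEmbedding.isInducing.topologicalKrullDim_le).trans hdim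
  choose C q hq hs hi U π hπ hCdim hne hsur hw using fun c => exists_model k (ι c ≫ f) (hdimW c)
  let g : ∀ c, (U c : Scheme.{u}) ⟶ Z := fun c => π c ≫ ι c
  haveI hg : ∀ c, IsFinite (g c) := fun c => by haveI := hπ c; exact inferInstanceAs (IsFinite (π c ≫ ι c))
  haveI : ∀ c, LocallyOfFinitePresentation (g c) := fun c => inferInstance
  have hcov' : ∀ z : Z, ∃ c, z ∈ Set.range (g c).base := fun z => by
    obtain ⟨c, w, rfl⟩ := hcov z
    obtain ⟨x, rfl⟩ := hsur c w
    exact ⟨c, x, Scheme.Hom.comp_apply _ _ _⟩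
  let G : Fin N → EtCoh.Ab Z := fun c => (EtCoh.push (g c)).obj (EtCoh.const (U c : Scheme.{u}) M)
  have hmono := mono_lift_units g hcov' (EtCoh.const Z M)
  let e : (⨁ fun c => (EtCoh.push (g c)).obj ((EtCoh.pull (g c)).obj (EtCoh.const Z M))) ≅ ⨁ G :=
    biproduct.mapIso fun c => (EtCoh.push (g c)).mapIso (EtCore.pullConst (g c) M)
  refine ⟨⨁ G, biproduct.lift (fun c => (EtCoh.pullPushAdj (g c)).unit.app (EtCoh.const Z M)) ≫ e.hom, @mono_comp _ _ _ _ _ _ hmono e.hom inferInstance,
    nsmul_biproduct_eq_zero G fun c => nsmul_map_eq_zero _ (nsmul_const_eq_zero _ hn),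
    EtFound.isConstructible_biproduct G fun c =>
      EtFound.isConstructible_push (g c) (CdInt.isConstructible_const _ M), fun i => finite_biproduct G i fun c => ?_⟩
  haveI := hq c
  haveI := hs c
  haveI := hi c
  haveI := EtContLib.pfl (g c)
  haveI := finite_H_const k (q c) (hCdim c) (U c) (hne c) M (h.imp_right fun hf => by
    haveI := hπ c
    haveI := hf
    rw [← hw c]
    infer_instance) i
  exact finite_push (g c) _ i

/-- constructible sheaves embed into constructible sheaves with finite cohomology -/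
theorem exists_mono_finite {X : Scheme.{u}} (f : X ⟶ Spec (CommRingCat.of k)) [IsSeparated f]
    [LocallyOfFiniteType f] [QuasiCompact f] (hdim : topologicalKrullDim X ≤ 1) {F : EtCoh.Ab X}
    (hF : EtPBC.IsConstructible F) {n : ℕ} (hn : n • 𝟙 F = 0) (h : (n : k) ≠ 0 ∨ IsProper f) :
    ∃ (P : EtCoh.Ab X) (j : F ⟶ P), Mono j ∧ n • 𝟙 P = 0 ∧ EtPBC.IsConstructible P ∧
      ∀ q, Finite (EtCoh.H X P q) := by
  haveI : IsLocallyNoetherian X := LocallyOfFiniteType.isLocallyNoetherian f
  haveI : CompactSpace X := QuasiCompact.compactSpace_of_compactSpace f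
  haveI : IsNoetherian X := {}
  obtain ⟨N, Y, g, hg, hg', M, hM, hM', a, ha⟩ := EtFinEmbed.exists_embedding hF
  haveI := hg
  haveI := hg'
  choose e he hfac using fun i => exists_torsion_factor (g i) (M i) n
  choose b hb using fun i => hfac i hn (a ≫ biproduct.π _ i)
  have hdimY : ∀ i, topologicalKrullDim (Y i) ≤ 1 := fun i => by
    refine le_trans ?_ hdim
    exact CdInt.topologicalKrullDim_le_of_finite (g i)
  have hK : ∀ i, ∀ x : (nsmulAddMonoidHom n : M i →+ M i).ker, n • x = 0 := fun i x => Subtype.ext x.2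
  choose R ι hι hRn hRc hRf using fun i => exists_mono_finite_const k (g i ≫ f) (hdimY i)
    (nsmulAddMonoidHom n : M i →+ M i).ker
    (h.imp (fun hne => cast_card_ne_zero k (hK i) hne) fun hp => by haveI := hp; infer_instance) n (hK i)
  let P : Fin N → EtCoh.Ab X := fun i => (EtCoh.push (g i)).obj (R i)
  refine ⟨⨁ P, biproduct.lift fun i => b i ≫ (EtCoh.push (g i)).map (ι i), ?_,
    nsmul_biproduct_eq_zero P fun i => nsmul_map_eq_zero _ (hRn i),
    EtFound.isConstructible_biproduct P fun i => EtFound.isConstructible_push (g i) (hRc i),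
    fun q => finite_biproduct P q fun i => ?_⟩
  · refine Preadditive.mono_iff_cancel_zero _ |>.2 fun A x hx => ?_
    haveI := ha
    refine (cancel_mono a).1 ?_
    rw [zero_comp]
    refine biproduct.hom_ext _ _ fun i => ?_
    haveI := hι i
    haveI : (EtCoh.push (g i)).IsRightAdjoint := (EtCoh.pullPushAdj (g i)).isRightAdjoint
    have h1 : (x ≫ b i) ≫ (EtCoh.push (g i)).map (ι i) = 0 := by
      have := congrArg (fun z => z ≫ biproduct.π P i) hx
      simpa using this
    have h2 : x ≫ b i = 0 := (cancel_mono ((EtCoh.push (g i)).map (ι i))).1 (h1.trans zero_comp.symm)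
    rw [zero_comp, Category.assoc, ← hb i, ← Category.assoc, h2, zero_comp]
  · haveI := EtContLib.pfl (g i)
    haveI := hRf i q
    exact finite_push (g i) _ q

/-- **Finiteness of étale cohomology of curves.** -/
theorem finite_H {X : Scheme.{u}} (f : X ⟶ Spec (CommRingCat.of k)) [IsSeparated f]
    [LocallyOfFiniteType f] [QuasiCompact f] (hdim : topologicalKrullDim X ≤ 1) {n : ℕ} (hn0 : 0 < n)
    (h : (n : k) ≠ 0 ∨ IsProper f) (q : ℕ) :
    ∀ {F : EtCoh.Ab X}, EtPBC.IsConstructible F → n • 𝟙 F = 0 → Finite (EtCoh.H X F q) := by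
  induction q with
  | zero =>
    intro F hF hn
    obtain ⟨P, j, hj, -, -, hfin⟩ := exists_mono_finite k f hdim hF hn h
    haveI := hj
    haveI := hfin 0
    exact finite_left_zero
      (S := ShortComplex.mk j (cokernel.π j) (cokernel.condition j))
      { exact := ShortComplex.exact_of_g_is_cokernel _ (cokernelIsCokernel j) }
  | succ q ih =>
    intro F hF hn
    obtain ⟨P, j, hj, hPn, hP, hfin⟩ := exists_mono_finite k f hdim hF hn h
    haveI := hj
    have hQ : n • 𝟙 (cokernel j) = 0 := by
      rw [← cancel_epi (cokernel.π j), comp_zero, Preadditive.comp_nsmul, Category.comp_id,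
        ← Category.id_comp (cokernel.π j), ← Preadditive.nsmul_comp, hPn, zero_comp]
    haveI : Finite (EtCoh.H X (cokernel j) q) := ih (S0131.result j n hn0 ((EtFound.killedBy_iff_nsmul n F).2 hn)
      ((EtFound.killedBy_iff_nsmul n P).2 hPn) hF hP).2 hQ
    haveI := hfin (q + 1)
    exact finite_left_succ
      (S := ShortComplex.mk j (cokernel.π j) (cokernel.condition j))
      { exact := ShortComplex.exact_of_g_is_cokernel _ (cokernelIsCokernel j) } q

end Groth.Agent.EtCurveFin
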