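import Groth.Agent.EtFound.Presentation
import Groth.Agent.EtTorLib.Sections
import Mathlib.Algebra.CharP.Basic

/-!
# Constructible sheaves with torsion invertible in a field
-/

set_option autoImplicit false
set_option linter.style.haveILetI false
set_option backward.isDefEq.respectTransparency false
set_option backward.isDefEq.respectTransparency.types false

universe u

open CategoryTheory CategoryTheory.Limits AlgebraicGeometry Opposite

namespace Groth.Agent.EtCurveFin

open Groth.Agent

theorem exists_killed_invertible (k : Type u) [Field k] {X : Scheme.{u}} [CompactSpace X] [QuasiSeparatedSpace X]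
    {F : EtCoh.Ab X} (hF : EtPBC.IsConstructible F)
    (hFt : EtPBC.IsTorsionInvertibleOn (Spec (CommRingCat.of k)) F) :
    ∃ n : ℕ, 0 < n ∧ (n : k) ≠ 0 ∧ n • 𝟙 F = 0 := by
  classical
  have hex : ∃ n : ℕ, 0 < n ∧ n • 𝟙 F = 0 := EtFound.exists_killedBy X hF
  obtain ⟨hd0, hd⟩ := Nat.find_spec hex
  refine ⟨Nat.find hex, hd0, fun h0 => ?_, hd⟩
  rcases CharP.char_is_prime_or_zero k (ringChar k) with hp | hp
  swap
  · have h1 := (ringChar.spec k _).1 h0
    rw [hp, zero_dvd_iff] at h1
    omega
  obtain ⟨e, he⟩ := (ringChar.spec k _).1 h0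
  have he0 : 0 < e := Nat.pos_of_ne_zero fun h => by rw [h, mul_zero] at he; omega
  have hlt : e < Nat.find hex := by
    rw [he]
    exact lt_mul_left he0 hp.one_lt
  refine Nat.find_min hex hlt ⟨he0, (EtFound.killedBy_iff_nsmul e F).1 fun U s => ?_⟩
  have hps : ringChar k • (e • s) = 0 := by
    rw [← mul_nsmul', ← he]
    exact (EtFound.killedBy_iff_nsmul _ F).2 hd U s
  refine EtTorLib.eq_zero_of_locally _ fun x => ?_
  obtain ⟨V, g, m, ⟨v, hv⟩, hm, hms⟩ := hFt U s x
  refine ⟨V, g, v, ?_, hv⟩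
  have hmk : (m : k) ≠ 0 := by
    have h := hm.map (Scheme.ΓSpecIso (CommRingCat.of k)).hom.hom
    rw [map_natCast] at h
    exact h.ne_zero
  have hcop : Nat.Coprime (ringChar k) m :=
    (Nat.Prime.coprime_iff_not_dvd hp).2 fun hdvd => hmk ((ringChar.spec k m).2 hdvd)
  have h1 : addOrderOf (F.obj.map g.op (e • s)) ∣ ringChar k := addOrderOf_dvd_of_nsmul_eq_zero
    (((map_nsmul (F.obj.map g.op).hom (ringChar k) _).symm).trans ((congrArg _ hps).trans (map_zero (F.obj.map g.op).hom)))
  have h2 : addOrderOf (F.obj.map g.op (e • s)) ∣ m := addOrderOf_dvd_of_nsmul_eq_zero (by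
    rw [map_nsmul (F.obj.map g.op).hom, ← mul_nsmul', mul_comm, mul_nsmul']
    exact (congrArg (e • ·) hms).trans (smul_zero e))
  exact AddMonoid.addOrderOf_eq_one_iff.1 (Nat.eq_one_of_dvd_coprimes hcop h1 h2)

end Groth.Agent.EtCurveFin
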